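import Groth.Agent.H8.PureTrans.Main
import Groth.Agent.H8.AlgClosedSchLocus.Basic
import Groth.Agent.H8.FieldDescent.Main
import Groth.Agent.H8.SchLocus.Basic

/-! # Points below schematic generic points of purely transcendental base changes are schematic -/

set_option autoImplicit false
set_option linter.style.haveILetI false
set_option backward.isDefEq.respectTransparency false
set_option backward.isDefEq.respectTransparency.types false

universe u

open CategoryTheory CategoryTheory.Limits AlgebraicGeometry Topology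
open AlgSp (Sp yon RepWith IsAlgSpace Points IsQuasiCompactSp IsQuasiSeparatedSp IsFinLocFreeMor)
open Groth.Agent.Lib Groth.Agent.Lib.AlgSpace
open Groth.Agent.H8.FieldDescent.Stage Groth.Agent.H8.FieldDescent.Main
open Groth.Agent.H8.PureTrans.Main (isFinLocFree_specMap exists_extend exists_point_hom lift_comp_algebraMap)

namespace Groth.Agent.H8.PureTrans.Generic


variable {k : Type u} [Field k] {ι : Type u}

/-- A finitely generated subalgebra of the rational functions lands in a localization. -/
theorem exists_away_hom (A : FGSub k (FractionRing (MvPolynomial ι k))) :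
    ∃ (g : MvPolynomial ι k) (_ : g ≠ 0) (φ : A.1 →ₐ[k] Localization.Away g)
      (j₀ : Localization.Away g →+* FractionRing (MvPolynomial ι k)),
      (∀ p : MvPolynomial ι k, j₀ (algebraMap _ _ p) = algebraMap _ _ p) ∧
      ∀ z, j₀ (φ z) = A.1.val z := by
  classical
  obtain ⟨A, hA⟩ := A
  let K : Type u := FractionRing (MvPolynomial ι k)
  obtain ⟨s, hs⟩ := hA
  obtain ⟨⟨g, hg'⟩, hgs⟩ :=
    IsLocalization.exist_integer_multiples_of_finset (nonZeroDivisors (MvPolynomial ι k)) s
  have hg0 : g ≠ 0 := nonZeroDivisors.ne_zero hg'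
  have hu : IsUnit (algebraMap (MvPolynomial ι k) K g) :=
    IsUnit.mk0 _ ((map_ne_zero_iff _ (IsFractionRing.injective _ _)).2 hg0)
  let j₀ : Localization.Away g →+* K := IsLocalization.Away.lift g hu
  let j : Localization.Away g →ₐ[k] K :=
    { toRingHom := j₀
      commutes' := fun r => by
        show j₀ _ = _
        rw [IsScalarTower.algebraMap_apply k (MvPolynomial ι k) (Localization.Away g),
          IsLocalization.Away.lift_eq, ← IsScalarTower.algebraMap_apply] }
  have hj : Function.Injective j := by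
    refine (IsLocalization.lift_injective_iff _).2 fun a b => ?_
    rw [(IsFractionRing.injective (MvPolynomial ι k) K).eq_iff]
    refine ⟨fun e => ?_, fun e => congrArg _ e⟩
    exact IsLocalization.injective (Localization.Away g)
      (powers_le_nonZeroDivisors_of_noZeroDivisors hg0) e
  have hle : A ≤ j.range := by
    rw [← hs, Algebra.adjoin_le_iff]
    intro x hx
    obtain ⟨b, hb⟩ := hgs x hx
    refine ⟨IsLocalization.mk' (Localization.Away g) b ⟨g, Submonoid.mem_powers g⟩, ?_⟩
    refine hu.mul_right_cancel ?_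
    show j₀ _ * _ = _
    rw [← IsLocalization.Away.lift_eq (S := Localization.Away g) g hu g, ← map_mul, IsLocalization.mk'_spec,
      IsLocalization.Away.lift_eq, hb]
    simp [Algebra.smul_def, mul_comm, K]
  let φ : A →ₐ[k] Localization.Away g :=
    (AlgEquiv.ofInjective j hj).symm.toAlgHom.comp (Subalgebra.inclusion hle)
  have hjφ : ∀ z, j (φ z) = A.val z := fun z => by
    show j ((AlgEquiv.ofInjective j hj).symm (Subalgebra.inclusion hle z)) = _
    exact congrArg Subtype.val ((AlgEquiv.ofInjective j hj).apply_symm_apply _)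
  exact ⟨g, hg0, φ, j₀, IsLocalization.Away.lift_eq g hu, hjφ⟩

/-- The generic chart maps to the generic point. -/
theorem exists_to_fractionRing {L : Type u} [Field L] [Algebra k L] (g : MvPolynomial ι k)
    (hgL : MvPolynomial.map (algebraMap k L) g ≠ 0)
    (tL : FractionRing (MvPolynomial ι k) →+* FractionRing (MvPolynomial ι L))
    (htL : ∀ p : MvPolynomial ι k, tL (algebraMap _ _ p) =
      algebraMap _ _ (MvPolynomial.map (algebraMap k L) p))
    (j₀ : Localization.Away g →+* FractionRing (MvPolynomial ι k))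
    (hj₀ : ∀ p : MvPolynomial ι k, j₀ (algebraMap _ _ p) = algebraMap _ _ p)
    (hgC : IsUnit (((algebraMap (MvPolynomial ι L)
      (Localization.Away (MvPolynomial.map (algebraMap k L) g))).comp
        (MvPolynomial.map (algebraMap k L))) g)) :
    ∃ eC : Localization.Away (MvPolynomial.map (algebraMap k L) g) →+*
        FractionRing (MvPolynomial ι L), Function.Injective eC ∧
      eC.comp (algebraMap k _) = algebraMap k _ ∧ eC.comp (algebraMap L _) = algebraMap L _ ∧
      eC.comp (IsLocalization.Away.lift (S := Localization.Away g) g hgC) = tL.comp j₀ := by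
  let gL := MvPolynomial.map (algebraMap k L) g
  have hgLT : IsUnit ((algebraMap (MvPolynomial ι L) (FractionRing (MvPolynomial ι L))) gL) :=
    IsUnit.mk0 _ ((map_ne_zero_iff _ (IsFractionRing.injective _ _)).2 hgL)
  let eC : Localization.Away gL →+* FractionRing (MvPolynomial ι L) :=
    IsLocalization.Away.lift gL hgLT
  have he : eC.comp (algebraMap _ _) = algebraMap _ _ := IsLocalization.Away.lift_comp gL hgLT
  refine ⟨eC, ?_, ?_, ?_, IsLocalization.ringHom_ext (Submonoid.powers g) (RingHom.ext fun p => ?_)⟩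
  · refine (IsLocalization.lift_injective_iff _).2 fun a b => ?_
    rw [(IsFractionRing.injective (MvPolynomial ι L) (FractionRing (MvPolynomial ι L))).eq_iff]
    refine ⟨fun e => ?_, fun e => congrArg _ e⟩
    exact IsLocalization.injective (Localization.Away gL)
      (powers_le_nonZeroDivisors_of_noZeroDivisors hgL) e
  · rw [IsScalarTower.algebraMap_eq k (MvPolynomial ι L) (Localization.Away gL),
      ← RingHom.comp_assoc, he, ← IsScalarTower.algebraMap_eq]
  · rw [IsScalarTower.algebraMap_eq L (MvPolynomial ι L) (Localization.Away gL),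
      ← RingHom.comp_assoc, he, ← IsScalarTower.algebraMap_eq]
  · show eC (IsLocalization.Away.lift g hgC (algebraMap _ _ p)) = tL (j₀ _)
    rw [IsLocalization.Away.lift_eq, hj₀, htL]
    exact DFunLike.congr_fun he _

set_option maxHeartbeats 2000000 in
/-- A point below a schematic generic point of a purely transcendental base change is schematic
(quasi-compact case). -/
theorem exists_scheme_nhd_of_qcqs {X : Sp (Spec (CommRingCat.of k))} (hX : IsAlgSpace X)
    (hqc : IsQuasiCompactSp X) (hqs : IsQuasiSeparatedSp X) {L : Type u} [Field L] [Algebra k L]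
    (q : (yon (Spec (CommRingCat.of k))).obj (Over.mk (Spec.map (CommRingCat.ofHom (algebraMap k L)))) ⟶ X)
    (tL : FractionRing (MvPolynomial ι k) →+* FractionRing (MvPolynomial ι L))
    (htL : ∀ p : MvPolynomial ι k, tL (algebraMap _ _ p) =
      algebraMap _ _ (MvPolynomial.map (algebraMap k L) p))
    (qL : (Over.mk (Spec.map (CommRingCat.ofHom (algebraMap k (FractionRing (MvPolynomial ι L))))) :
      Over (Spec (CommRingCat.of k))) ⟶ Over.mk (Spec.map (CommRingCat.ofHom (algebraMap k L))))
    (hqL : qL.left = Spec.map (CommRingCat.ofHom (algebraMap L (FractionRing (MvPolynomial ι L)))))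
    (qT : (Over.mk (Spec.map (CommRingCat.ofHom (algebraMap k (FractionRing (MvPolynomial ι L))))) :
      Over (Spec (CommRingCat.of k))) ⟶
        Over.mk (Spec.map (CommRingCat.ofHom (algebraMap k (FractionRing (MvPolynomial ι k))))))
    (hqT : qT.left = Spec.map (CommRingCat.ofHom tL))
    {T₀ : Over (Spec (CommRingCat.of k))} [IsAffine T₀.left]
    (jT : (yon (Spec (CommRingCat.of k))).obj T₀ ⟶
      bc X (CommRingCat.ofHom (algebraMap k (FractionRing (MvPolynomial ι k)))))
    (hjT : RepWith @IsOpenImmersion jT) (t₀ : T₀.left)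
    (ht₀ : Points.ofPt jT t₀ =
      Points.ofPt (prod.lift ((yon _).map qL ≫ q) ((yon _).map qT))
        (IsLocalRing.closedPoint (FractionRing (MvPolynomial ι L)))) :
    ∃ (V : Sp (Spec (CommRingCat.of k))) (j : V ⟶ X), RepWith @IsOpenImmersion j ∧
      V.obj.IsRepresentable ∧
      Points.ofPt q (IsLocalRing.closedPoint L) ∈ Set.range (Points.map j) := by
  classical
  let K : Type u := FractionRing (MvPolynomial ι k)
  haveI : IsFiltered (FGSub k K) := isFiltered_of_directed_le_nonempty (FGSub k K)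
  let F : FGSub k K ⥤ CommRingCat.{u} :=
    { obj := fun A => CommRingCat.of A.1
      map := fun f => CommRingCat.ofHom (Subalgebra.inclusion (Subtype.coe_le_coe.2 f.le)).toRingHom
      map_id := fun _ => by ext x; rfl
      map_comp := fun _ _ => by ext x; rfl }
  let ρ : (Functor.const (FGSub k K)).obj (CommRingCat.of k) ⟶ F :=
    { app := fun A => CommRingCat.ofHom (algebraMap k A.1)
      naturality := fun _ _ _ => by ext x; rfl }
  let c : Cocone F :=
    { pt := CommRingCat.of K
      ι := { app := fun A => CommRingCat.ofHom A.1.val.toRingHom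
             naturality := fun _ _ _ => by ext x; rfl } }
  haveI : HasColimit F := inferInstance
  haveI : ReflectsColimit F (forget CommRingCat.{u}) :=
    reflectsColimit_of_reflectsIsomorphisms _ _
  let hc : IsColimit c := isColimitOfReflects (forget CommRingCat.{u})
    (Types.FilteredColimit.isColimitOf _ _ (fun x => by
      let x' : K := x
      exact ⟨⟨Algebra.adjoin k {x'}, Subalgebra.fg_adjoin_finset {x'} |> fun h => by simpa using h⟩,
        ⟨x', Algebra.self_mem_adjoin_singleton k x'⟩, rfl⟩) fun i j xi xj e => by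
      obtain ⟨m, him, hjm⟩ := exists_ge_ge i j
      exact ⟨m, homOfLE him, homOfLE hjm, Subtype.ext e⟩)
  obtain ⟨A, N, γ, y₀, qA, hγ, hqA, hy₀⟩ := AlgClosedSchLocus.Basic.exists_open_stage F ρ c hc
    (CommRingCat.ofHom (algebraMap k K)) (fun _ => by ext x; rfl) hX hqc hqs jT hjT t₀
  obtain ⟨g, hg, φ, j₀, hj₀, hjφ⟩ := exists_away_hom A
  let ELT : Over (Spec (CommRingCat.of k)) :=
    Over.mk (Spec.map (CommRingCat.ofHom (algebraMap k (FractionRing (MvPolynomial ι L)))))
  let Φ₀ := prod.lift ((yon (Spec (CommRingCat.of k))).map qL ≫ q)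
    ((yon (Spec (CommRingCat.of k))).map qT)
  have hΦ₁ : Φ₀ ≫ prod.fst = (yon (Spec (CommRingCat.of k))).map qL ≫ q := prod.lift_fst _ _
  have hΦ₂ : Φ₀ ≫ prod.snd = (yon (Spec (CommRingCat.of k))).map qT := prod.lift_snd _ _
  let B : Scheme.{u} := Spec (CommRingCat.of k)
  let b : Over B := Over.mk (𝟙 B)
  have hb : IsTerminal ((yon B).obj b) := Over.mkIdTerminal.isTerminalObj (yon B)
  let EL : Over B := Over.mk (Spec.map (CommRingCat.ofHom (algebraMap k L)))
  obtain ⟨qN, hqN⟩ := (yon B).map_surjective (γ ≫ prod.snd)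
  -- the generic point over `x`
  let gL : MvPolynomial ι L := MvPolynomial.map (algebraMap k L) g
  have hgL : gL ≠ 0 := fun e₀ => hg (MvPolynomial.map_injective _ (algebraMap k L).injective
    (e₀.trans (map_zero _).symm))
  let C : Type u := Localization.Away gL
  haveI : IsDomain C :=
    IsLocalization.isDomain_localization (powers_le_nonZeroDivisors_of_noZeroDivisors hgL)
  let EC : Over B := Over.mk (Spec.map (CommRingCat.ofHom (algebraMap k C)))
  let EA : Over B := Over.mk (Spec.map (ρ.app A))
  have hgC : IsUnit (((algebraMap (MvPolynomial ι L) C).comp (MvPolynomial.map (algebraMap k L))) g) :=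
    IsLocalization.Away.algebraMap_isUnit (S := C) gL
  let iA : Localization.Away g →+* C := IsLocalization.Away.lift g hgC
  have hiA : iA.comp (algebraMap k (Localization.Away g)) = algebraMap k C := by
    refine (lift_comp_algebraMap g hgC).trans ?_
    rw [IsScalarTower.algebraMap_eq k (MvPolynomial ι L) C, RingHom.comp_assoc]
    refine congrArg _ (RingHom.ext fun r => ?_)
    exact MvPolynomial.map_C _ r
  let cL : EC ⟶ EL := Over.homMk (Spec.map (CommRingCat.ofHom (algebraMap L C))) (by
    show Spec.map _ ≫ Spec.map _ = Spec.map _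
    rw [← Spec.map_comp, ← CommRingCat.ofHom_comp, ← IsScalarTower.algebraMap_eq])
  let cA : EC ⟶ EA := Over.homMk (Spec.map (CommRingCat.ofHom (iA.comp φ.toRingHom))) (by
    show Spec.map _ ≫ Spec.map _ = Spec.map _
    rw [← Spec.map_comp]
    congr 1
    ext r
    exact (congrArg iA (φ.commutes r)).trans (DFunLike.congr_fun hiA r))
  let Φ : (yon B).obj EC ⟶ bc X (ρ.app A) := prod.lift ((yon B).map cL ≫ q) ((yon B).map cA)
  let c₀ : EC.left := (⟨⊥, Ideal.isPrime_bot⟩ : PrimeSpectrum C)
  obtain ⟨eC, heC, heCk, heCL, heA⟩ := exists_to_fractionRing g hgL tL htL j₀ hj₀ hgC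
  have hc₀ : Points.ofPt Φ c₀ ∈ Set.range (Points.map γ) := by
    let θ₀ : ELT ⟶ EC := Over.homMk (Spec.map (CommRingCat.ofHom eC)) (by
      show Spec.map _ ≫ Spec.map _ = Spec.map _
      rw [← Spec.map_comp]
      congr 1
      ext r
      exact DFunLike.congr_fun heCk r)
    let pT : ELT.left := IsLocalRing.closedPoint (FractionRing (MvPolynomial ι L))
    have hθ₀ : θ₀.left pT = c₀ := by
      refine PrimeSpectrum.ext ?_
      show Ideal.comap eC (IsLocalRing.maximalIdeal _) = ⊥
      rw [IsLocalRing.maximalIdeal_eq_bot, ← RingHom.ker_eq_comap_bot]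
      exact (RingHom.injective_iff_ker_eq_bot eC).1 heC
    have e : (yon B).map θ₀ ≫ Φ = Φ₀ ≫ prod.map (𝟙 X) ((yon B).map qA) := by
      refine prod.hom_ext ?_ ?_
      · simp only [Φ, Category.assoc, prod.lift_fst]
        rw [prod.map_fst, Category.comp_id, hΦ₁]
        rw [← Category.assoc, ← Functor.map_comp]
        congr 2
        refine Over.OverMorphism.ext ?_
        show Spec.map _ ≫ Spec.map _ = qL.left
        rw [hqL, ← Spec.map_comp]
        congr 1
        ext r
        exact DFunLike.congr_fun heCL r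
      · simp only [Φ, Category.assoc, prod.lift_snd, prod.map_snd]
        rw [reassoc_of% hΦ₂, ← Functor.map_comp, ← Functor.map_comp]
        congr 1
        refine Over.OverMorphism.ext ?_
        show Spec.map _ ≫ Spec.map _ = qT.left ≫ qA.left
        rw [hqA, hqT, ← Spec.map_comp, ← Spec.map_comp]
        congr 1
        ext z
        show eC (iA (φ z)) = tL (A.1.val z)
        rw [← RingHom.comp_apply, heA]
        show tL (j₀ (φ z)) = _
        exact congrArg tL (hjφ z)
    rw [← hθ₀, ← AlgSpace.ofPt_yon_map_comp, e, ← Points.map_ofPt, ← ht₀, hy₀,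
      Points.ofPt_eq_map_ofScheme]
    exact ⟨_, rfl⟩
  obtain ⟨y₁, hy₁⟩ := hc₀
  obtain ⟨_, ⟨U, hU, rfl⟩, hcU, -⟩ :=
    N.left.isBasis_affineOpens.exists_subset_of_mem_open
      (Set.mem_univ (Points.toScheme N y₁)) isOpen_univ
  change N.left.Opens at U
  let UO : Over B := Over.mk (U.ι ≫ N.hom)
  let wU : UO ⟶ N := Over.homMk U.ι rfl
  let uO : (yon B).obj UO ⟶ _ := (yon B).map wU ≫ γ
  have huO : RepWith @IsOpenImmersion uO := AlgSpace.repWith_yon_map_comp
    (inferInstanceAs (IsOpenImmersion U.ι)) hγ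
  obtain ⟨_, ⟨f, rfl⟩, hfc, hfsub⟩ :=
    PrimeSpectrum.isTopologicalBasis_basic_opens.exists_subset_of_mem_open
      (show c₀ ∈ Points.ofPt Φ ⁻¹' Set.range (Points.map uO) from
        ⟨Points.ofScheme UO (⟨_, hcU⟩ : U.toScheme), by
          rw [← Points.ofPt_eq_map_ofScheme, ← hy₁]
          refine (AlgSpace.ofPt_yon_map_comp wU γ (⟨_, hcU⟩ : U.toScheme)).trans ?_
          show Points.ofPt γ (Points.toScheme N y₁) = _
          rw [Points.ofPt_eq_map_ofScheme, Points.ofScheme_toScheme]⟩)
      ((AlgSpace.isOpenEmbedding_map huO).isOpen_range.preimage (Points.continuous_ofPt Φ))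
  have hf : f ≠ 0 := fun e₀ => hfc (by rw [e₀]; exact Ideal.zero_mem _)
  obtain ⟨⟨hp, s⟩, hps⟩ := IsLocalization.surj (Submonoid.powers gL) f
  have hp0 : hp ≠ 0 := by
    intro e₀
    rw [e₀, map_zero] at hps
    exact mul_ne_zero hf (IsLocalization.map_units C s).ne_zero hps
  -- the point of specialization
  obtain ⟨av, hafin, hag, hav⟩ :=
    Alg.exists_point (k := k) (kbar := AlgebraicClosure k) ι hg hp0
  let K' := IntermediateField.adjoin k (Set.range av)
  haveI : Finite ↥(Set.range av) := hafin.to_subtype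
  haveI : Module.Finite k K' := IntermediateField.finiteDimensional_adjoin
    fun x _ => Algebra.IsIntegral.isIntegral x
  let a' : ι → K' := fun i => ⟨av i, IntermediateField.subset_adjoin k _ ⟨i, rfl⟩⟩
  have hval : ∀ p : MvPolynomial ι k, K'.val (MvPolynomial.aeval a' p) = MvPolynomial.aeval av p :=
    fun p => by rw [← AlgHom.comp_apply, MvPolynomial.comp_aeval]; rfl
  have hga : IsUnit (MvPolynomial.aeval a' g) :=
    IsUnit.mk0 _ fun e₀ => hag (by rw [← hval, e₀, map_zero])
  let ev : Localization.Away g →+* K' :=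
    IsLocalization.Away.lift g (g := (MvPolynomial.aeval a').toRingHom) hga
  let E' : Over B := Over.mk (Spec.map (CommRingCat.ofHom (algebraMap k K')))
  have hev : ev.comp (algebraMap k (Localization.Away g)) = algebraMap k K' :=
    (lift_comp_algebraMap g _).trans (MvPolynomial.aeval a').comp_algebraMap
  let c : E' ⟶ EA := Over.homMk (Spec.map (CommRingCat.ofHom (ev.comp φ.toRingHom))) (by
    show Spec.map _ ≫ Spec.map _ = Spec.map _
    rw [← Spec.map_comp]
    congr 1
    ext r
    exact congrArg Subtype.val ((congrArg ev (φ.commutes r)).trans (DFunLike.congr_fun hev r)))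
  let X' := bc X (CommRingCat.ofHom (algebraMap k K'))
  let π : X' ⟶ X := prod.fst
  -- the affine open
  let μ : X' ⟶ bc X (ρ.app A) :=
    prod.map (𝟙 X) ((yon B).map c)
  let P := pullback (wU ≫ qN) c
  have sP := (IsPullback.of_hasPullback (wU ≫ qN) c).map (yon B)
  let aP : (yon B).obj P ⟶ X' :=
    prod.lift ((yon B).map (pullback.fst (wU ≫ qN) c) ≫ uO ≫ prod.fst)
      ((yon B).map (pullback.snd (wU ≫ qN) c))
  have huq : uO ≫ prod.snd = (yon B).map (wU ≫ qN) := by
    rw [Functor.map_comp, hqN, Category.assoc]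
  have sqU : IsPullback ((yon B).map (pullback.fst (wU ≫ qN) c)) aP uO μ := by
    refine AlgSpace.isPullback_of_yon (prod.hom_ext ?_ ?_) (fun W p r h1 h2 => sP.hom_ext h1 ?_)
      fun W p r w => ?_
    · simp [μ, aP]
    · rw [Category.assoc, huq, sP.w]
      simp [μ, aP]
    · simpa [aP] using congrArg (· ≫ prod.snd) h2
    · have w' : p ≫ (yon B).map (wU ≫ qN) = (r ≫ prod.snd) ≫ (yon B).map c := by
        rw [← huq]
        simpa [μ] using congrArg (· ≫ prod.snd) w
      refine ⟨sP.lift p (r ≫ prod.snd) w', sP.lift_fst _ _ _, prod.hom_ext ?_ ?_⟩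
      · simp [aP]
        simpa [μ] using congrArg (· ≫ prod.fst) w
      · simp [aP]
  have haP : RepWith @IsOpenImmersion aP := AlgSpace.repWith_baseChange sqU huO
  haveI : IsAffine UO.left := hU
  haveI : IsAffine E'.left := inferInstanceAs (IsAffine (Spec (CommRingCat.of K')))
  haveI : IsAffine EA.left := inferInstanceAs (IsAffine (Spec (F.obj A)))
  have hPaff : IsAffine P.left := by
    have sqL := (IsPullback.of_hasPullback (wU ≫ qN) c).map (Over.forget B)
    haveI : IsAffineHom c.left := isAffineHom_of_isAffine _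
    haveI : IsAffineHom (pullback.fst (wU ≫ qN) c).left :=
      MorphismProperty.of_isPullback sqL.flip ‹_›
    exact isAffine_of_isAffineHom (pullback.fst (wU ≫ qN) c).left
  -- the projection
  haveI : IsAffine b.left := inferInstanceAs (IsAffine (Spec (CommRingCat.of k)))
  let cb : E' ⟶ b := Over.homMk E'.hom (Category.comp_id _)
  have sqb : IsPullback π prod.snd (hb.from X) ((yon B).map cb) :=
    AlgSpace.isPullback_of_yon (hb.hom_ext _ _) (fun U p q h1 h2 ↦ prod.hom_ext h1 h2)
      fun U p q _ ↦ ⟨prod.lift p q, prod.lift_fst _ _, prod.lift_snd _ _⟩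
  have hflf : Mor2.IsFinLocFree cb.left := isFinLocFree_specMap K'
  have hπ : IsFinLocFreeMor π :=
    AlgSpace.repWith_baseChange sqb.flip ((AlgSp.repWith_yon_map_iff _ cb).2 hflf)
  have hπs : RepWith @Surjective π := AlgSpace.repWith_baseChange sqb.flip
    ((AlgSp.repWith_yon_map_iff @Surjective cb).2
      ⟨fun y => ⟨IsLocalRing.closedPoint K', Subsingleton.elim (α := PrimeSpectrum k) _ _⟩⟩)
  -- the fibre
  let sL : EL ⟶ b := Over.homMk EL.hom (Category.comp_id _)
  let Q := pullback sL cb
  have sQ := (IsPullback.of_hasPullback sL cb).map (yon B)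
  let l : (yon B).obj Q ⟶ X' :=
    prod.lift ((yon B).map (pullback.fst sL cb) ≫ q) ((yon B).map (pullback.snd sL cb))
  have sqQ : IsPullback l ((yon B).map (pullback.fst sL cb)) π q := by
    refine AlgSpace.isPullback_of_yon (prod.lift_fst _ _)
      (fun W p r h1 h2 => sQ.hom_ext h2 ?_) fun W p r w => ?_
    · simpa [l] using congrArg (· ≫ prod.snd) h1
    · refine ⟨sQ.lift r (p ≫ prod.snd) (hb.hom_ext _ _), prod.hom_ext ?_ ?_, sQ.lift_fst _ _ _⟩
      · simp [l]
        exact w.symm
      · simp [l]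
  have hfib : Points.map π ⁻¹' {Points.ofPt q (IsLocalRing.closedPoint L)} ⊆ Set.range (Points.ofPt aP) := by
    intro z hz
    obtain ⟨w, rfl, -⟩ := AlgSpace.exists_of_isPullback sqQ z
      (Points.ofScheme EL (IsLocalRing.closedPoint L))
      (by rw [← Points.ofPt_eq_map_ofScheme]; exact hz)
    obtain ⟨ws, rfl⟩ : ∃ ws, Points.ofScheme Q ws = w := ⟨_, Points.ofScheme_toScheme Q w⟩
    let Ω : Type u := AlgebraicClosure (Q.left.residueField ws)
    let ωl : Spec (CommRingCat.of Ω) ⟶ Q.left :=
      Spec.map (CommRingCat.ofHom (algebraMap (Q.left.residueField ws) Ω)) ≫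
        Q.left.fromSpecResidueField ws
    let φ₀ : CommRingCat.of L ⟶ CommRingCat.of Ω := Spec.preimage (ωl ≫ (pullback.fst sL cb).left)
    let ψ₀ : CommRingCat.of K' ⟶ CommRingCat.of Ω :=
      Spec.preimage (ωl ≫ (pullback.snd sL cb).left)
    letI : Algebra k Ω := (φ₀.hom.comp (algebraMap k L)).toAlgebra
    have hω : ωl ≫ Q.hom = Spec.map (CommRingCat.ofHom (algebraMap k Ω)) := by
      rw [RingHom.algebraMap_toAlgebra, CommRingCat.ofHom_comp, Spec.map_comp, CommRingCat.ofHom_hom,
        Spec.map_preimage, Category.assoc, ← Over.w (pullback.fst sL cb)]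
      simp only [ωl, Category.assoc]
      rfl
    have hψ : ψ₀.hom.comp (algebraMap k K') = algebraMap k Ω := by
      refine congrArg CommRingCat.Hom.hom (Spec.map_injective (?_ :
        Spec.map (CommRingCat.ofHom (algebraMap k K') ≫ ψ₀) = Spec.map (CommRingCat.ofHom (algebraMap k Ω))))
      rw [← hω, Spec.map_comp, Spec.map_preimage, Category.assoc, ← Over.w (pullback.snd sL cb)]
      rfl
    let ω : (Over.mk (Spec.map (CommRingCat.ofHom (algebraMap k Ω))) : Over B) ⟶ Q :=
      Over.homMk ωl hω
    let ψ₁ : K' →ₐ[k] Ω := { ψ₀.hom with commutes' := fun r => DFunLike.congr_fun hψ r }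
    obtain ⟨ψ, hψe⟩ := exists_extend (kbar := AlgebraicClosure k) ψ₁
    have hψa : ∀ i, ψ (av i) = ψ₀.hom (a' i) := fun i => hψe (a' i)
    let φ : L →ₐ[k] Ω := { φ₀.hom with commutes' := fun _ => rfl }
    obtain ⟨ρ', hρf, hρL, hρA⟩ := exists_point_hom g a' hga hgC hps φ₀.hom ψ₀.hom
      (hψ.trans (RingHom.algebraMap_toAlgebra _)) (fun e₀ => hav Ω φ ψ (by
        rw [funext hψa]; exact e₀))
    let θ : (Over.mk (Spec.map (CommRingCat.ofHom (algebraMap k Ω))) : Over B) ⟶ EC :=
      Over.homMk (Spec.map (CommRingCat.ofHom ρ')) (by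
        show Spec.map _ ≫ Spec.map _ = Spec.map _
        rw [← Spec.map_comp, ← CommRingCat.ofHom_comp, IsScalarTower.algebraMap_eq k L C,
          ← RingHom.comp_assoc, hρL]
        rfl)
    have e₁ : θ ≫ cL = ω ≫ pullback.fst sL cb := Over.OverMorphism.ext (by
      show Spec.map _ ≫ Spec.map _ = ωl ≫ _
      rw [← Spec.map_comp, ← CommRingCat.ofHom_comp, hρL, CommRingCat.ofHom_hom, Spec.map_preimage])
    have e₂ : θ ≫ cA = ω ≫ pullback.snd sL cb ≫ c := Over.OverMorphism.ext (by
      show Spec.map _ ≫ Spec.map _ = ωl ≫ _ ≫ Spec.map _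
      rw [← Spec.map_comp, ← CommRingCat.ofHom_comp, ← RingHom.comp_assoc, hρA, RingHom.comp_assoc,
        CommRingCat.ofHom_comp, Spec.map_comp, CommRingCat.ofHom_hom, Spec.map_preimage, Category.assoc])
    have e₃ : (yon B).map θ ≫ Φ = (yon B).map ω ≫ l ≫ μ := by
      refine prod.hom_ext ?_ ?_
      · simp only [Φ, l, μ, Category.assoc, prod.lift_fst, prod.map_fst, Category.comp_id]
        rw [← Category.assoc, ← Functor.map_comp, e₁, Functor.map_comp, Category.assoc]
      · simp only [Φ, l, μ, Category.assoc, prod.lift_snd, prod.map_snd, prod.lift_snd_assoc]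
        rw [← Functor.map_comp, ← Functor.map_comp, ← Functor.map_comp, e₂]
    obtain ⟨u', hu'⟩ : Points.ofPt Φ (θ.left (IsLocalRing.closedPoint Ω)) ∈
        Set.range (Points.map uO) := hfsub (by
      show f ∉ (PrimeSpectrum.comap ρ' (IsLocalRing.closedPoint Ω)).asIdeal
      intro hmem
      exact (IsLocalRing.mem_maximalIdeal _).1 hmem (Ne.isUnit hρf))
    have hωpt : ω.left (IsLocalRing.closedPoint Ω) = ws := Scheme.fromSpecResidueField_apply ws _
    have key : Points.map μ (Points.map l (Points.ofScheme Q ws)) = Points.map uO u' := by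
      rw [hu', ← Points.map_comp, ← Points.ofPt_eq_map_ofScheme]
      refine (congrArg (Points.ofPt (l ≫ μ)) hωpt).symm.trans ?_
      rw [← AlgSpace.ofPt_yon_map_comp ω, ← e₃, AlgSpace.ofPt_yon_map_comp]
    obtain ⟨v, -, hv⟩ := AlgSpace.exists_of_isPullback sqU _ _ key.symm
    rw [← AlgSpDecent.Core.range_points_map_yon]
    exact ⟨v, hv⟩
  obtain ⟨Y', j, hj, hY', hmem⟩ := (SchLocus.Basic.iff
    (X := ⟨X', AlgSpace.isAlgSpace_prod hX (IsAlgSpace.yon_obj _)⟩) (Y := ⟨X, hX⟩)
    (ObjectProperty.homMk π) hπ hπs _).2 ⟨P, aP, hPaff, haP, hfib⟩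
  exact ⟨Y'.obj, j.hom, hj, hY', hmem⟩

/-- A point below a schematic generic point of a purely transcendental base change is schematic. -/
theorem exists_scheme_nhd {X : Sp (Spec (CommRingCat.of k))} (hX : IsAlgSpace X)
    (hqs : IsQuasiSeparatedSp X) {L : Type u} [Field L] [Algebra k L]
    (q : (yon (Spec (CommRingCat.of k))).obj (Over.mk (Spec.map (CommRingCat.ofHom (algebraMap k L)))) ⟶ X)
    (tL : FractionRing (MvPolynomial ι k) →+* FractionRing (MvPolynomial ι L))
    (htL : ∀ p : MvPolynomial ι k, tL (algebraMap _ _ p) =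
      algebraMap _ _ (MvPolynomial.map (algebraMap k L) p))
    (qL : (Over.mk (Spec.map (CommRingCat.ofHom (algebraMap k (FractionRing (MvPolynomial ι L))))) :
      Over (Spec (CommRingCat.of k))) ⟶ Over.mk (Spec.map (CommRingCat.ofHom (algebraMap k L))))
    (hqL : qL.left = Spec.map (CommRingCat.ofHom (algebraMap L (FractionRing (MvPolynomial ι L)))))
    (qT : (Over.mk (Spec.map (CommRingCat.ofHom (algebraMap k (FractionRing (MvPolynomial ι L))))) :
      Over (Spec (CommRingCat.of k))) ⟶
        Over.mk (Spec.map (CommRingCat.ofHom (algebraMap k (FractionRing (MvPolynomial ι k))))))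
    (hqT : qT.left = Spec.map (CommRingCat.ofHom tL))
    {W : Sp (Spec (CommRingCat.of k))} (hW : W.obj.IsRepresentable)
    (jW : W ⟶ bc X (CommRingCat.ofHom (algebraMap k (FractionRing (MvPolynomial ι k)))))
    (hjW : RepWith @IsOpenImmersion jW)
    (hmem : Points.ofPt (prod.lift ((yon _).map qL ≫ q) ((yon _).map qT))
      (IsLocalRing.closedPoint (FractionRing (MvPolynomial ι L))) ∈ Set.range (Points.map jW)) :
    ∃ (V : Sp (Spec (CommRingCat.of k))) (j : V ⟶ X), RepWith @IsOpenImmersion j ∧
      V.obj.IsRepresentable ∧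
      Points.ofPt q (IsLocalRing.closedPoint L) ∈ Set.range (Points.map j) := by
  obtain ⟨X₀, i, hX₀, hX₀c, hX₀s, hi, hxi⟩ := exists_qc_nhd hX hqs
    (Points.ofPt q (IsLocalRing.closedPoint L))
  obtain ⟨q₀, hq₀⟩ := (AlgSpace.exists_lift_iff_range_subset hi q).2 (by
    rintro _ ⟨z, rfl⟩
    rw [← Points.ofScheme_toScheme _ z, ← Points.ofPt_eq_map_ofScheme,
      Subsingleton.elim (α := PrimeSpectrum L) (Points.toScheme _ z) (IsLocalRing.closedPoint L)]
    exact hxi)
  let r := CommRingCat.ofHom (algebraMap k (FractionRing (MvPolynomial ι k)))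
  let iK : bc X₀ r ⟶ bc X r := prod.map i (𝟙 _)
  have hiK : RepWith @IsOpenImmersion iK := repWith_bc_map hi _
  let Φ' := prod.lift ((yon (Spec (CommRingCat.of k))).map qL ≫ q₀)
    ((yon (Spec (CommRingCat.of k))).map qT)
  have hΦ' : Φ' ≫ iK = prod.lift ((yon _).map qL ≫ q) ((yon _).map qT) := by
    simp only [Φ', iK, prod.lift_map, Category.assoc, hq₀]
    rw [Category.comp_id]
  have sq : IsPullback (pullback.fst jW iK) (pullback.snd jW iK) jW iK :=
    IsPullback.of_hasPullback _ _
  obtain ⟨w, hw⟩ := hmem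
  obtain ⟨v, -, hv⟩ := AlgSpace.exists_of_isPullback sq w
    (Points.ofPt Φ' (IsLocalRing.closedPoint (FractionRing (MvPolynomial ι L))))
    (by rw [hw, Points.map_ofPt, hΦ'])
  have hP : (pullback jW iK).obj.IsRepresentable :=
    isRepresentable_of_open (AlgSpace.repWith_baseChange sq.flip hiK) hW
  obtain ⟨M, ⟨hM⟩⟩ := hP.has_representation
  let e := AlgSp.isoOfRepresentableBy hM
  obtain ⟨_, ⟨N, hN, rfl⟩, hmN, -⟩ := M.left.isBasis_affineOpens.exists_subset_of_mem_open
    (Set.mem_univ (Points.toScheme M (Points.map e.inv v))) isOpen_univ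
  change M.left.Opens at N
  let NO : Over (Spec (CommRingCat.of k)) := Over.mk (N.ι ≫ M.hom)
  let wN : NO ⟶ M := Over.homMk N.ι rfl
  haveI : IsAffine NO.left := hN
  obtain ⟨V, j, hj, hV, hmem'⟩ := exists_scheme_nhd_of_qcqs hX₀ hX₀c hX₀s q₀ tL htL qL hqL qT hqT
    ((yon (Spec (CommRingCat.of k))).map wN ≫ e.hom ≫ pullback.snd jW iK)
    (AlgSpace.repWith_yon_map_comp (inferInstanceAs (IsOpenImmersion N.ι))
      ((AlgSpace.repWith_iso_comp_iff _ e.hom _).2 (AlgSpace.repWith_baseChange sq hjW)))
    (⟨_, hmN⟩ : N.toScheme) (by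
      refine (AlgSpace.ofPt_yon_map_comp wN _ (⟨_, hmN⟩ : N.toScheme)).trans ?_
      show Points.ofPt _ (Points.toScheme M _) = _
      rw [Points.ofPt_eq_map_ofScheme, Points.ofScheme_toScheme, ← Points.map_comp,
        e.inv_hom_id_assoc, hv])
  refine ⟨V, j ≫ i, AlgSpace.repWith_comp hj hi, hV, ?_⟩
  obtain ⟨y, hy⟩ := hmem'
  exact ⟨y, by rw [Points.map_comp, hy, Points.map_ofPt, hq₀]⟩

end Groth.Agent.H8.PureTrans.Generic
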