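import Mathlib.FieldTheory.IsAlgClosed.AlgebraicClosure
import Mathlib.RingTheory.MvPolynomial.Basic
import Mathlib.Algebra.MvPolynomial.Funext
import Mathlib.RingTheory.IntegralClosure.IsIntegralClosure.Basic
import Mathlib.RingTheory.Algebraic.Integral
import Mathlib.LinearAlgebra.Basis.VectorSpace
import Mathlib.FieldTheory.Normal.Basic

/-! # Algebraic points avoiding a hypersurface defined over an arbitrary extension -/

set_option autoImplicit false
set_option linter.style.haveILetI false

universe u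

namespace Groth.Agent.H8.PureTrans.Alg

open MvPolynomial

variable {k kbar L : Type u} [Field k] [Field kbar] [Algebra k kbar] [IsAlgClosed kbar]
  [Algebra.IsAlgebraic k kbar] [Field L] [Algebra k L]

/-- A nonzero polynomial over an algebraic extension divides a nonzero polynomial over the field. -/
theorem exists_dvd_map (ι : Type u) {h : MvPolynomial ι kbar} (hh : h ≠ 0) :
    ∃ c : MvPolynomial ι k, c ≠ 0 ∧ h ∣ MvPolynomial.map (algebraMap k kbar) c := by
  letI : Algebra (MvPolynomial ι k) (MvPolynomial ι kbar) :=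
    (MvPolynomial.map (algebraMap k kbar)).toAlgebra
  have hint : ∀ p : MvPolynomial ι kbar, IsIntegral (MvPolynomial ι k) p := fun p => by
    induction p using MvPolynomial.induction_on with
    | C a =>
      obtain ⟨P, hP, hPa⟩ := Algebra.IsIntegral.isIntegral (R := k) a
      refine ⟨P.map C, hP.map _, ?_⟩
      rw [Polynomial.eval₂_map]
      have : (algebraMap (MvPolynomial ι k) (MvPolynomial ι kbar)).comp (C : k →+* MvPolynomial ι k) =
          (C : kbar →+* MvPolynomial ι kbar).comp (algebraMap k kbar) :=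
        RingHom.ext fun r => map_C _ r
      rw [this, ← Polynomial.hom_eval₂, hPa, map_zero]
    | add p q hp hq => exact hp.add hq
    | mul_X p i hp =>
      refine hp.mul ?_
      rw [show (X i : MvPolynomial ι kbar) =
        algebraMap (MvPolynomial ι k) (MvPolynomial ι kbar) (X i) from (map_X _ i).symm]
      exact isIntegral_algebraMap
  obtain ⟨c, hc, hdvd⟩ :=
    (hint h).isAlgebraic.exists_nonzero_dvd (mem_nonZeroDivisors_of_ne_zero hh)
  exact ⟨c, hc, hdvd⟩

/-- A finitely supported algebraic point at which a given polynomial over `k` does not vanish and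
none of whose embeddings is a zero of a given polynomial over `L`. -/
theorem exists_point (ι : Type u) {g : MvPolynomial ι k} (hg : g ≠ 0) {h : MvPolynomial ι L}
    (hh : h ≠ 0) :
    ∃ a : ι → kbar, (Set.range a).Finite ∧ aeval a g ≠ 0 ∧
      ∀ (Ω : Type u) [Field Ω] [IsAlgClosed Ω] [Algebra k Ω] (φ : L →ₐ[k] Ω) (ψ : kbar →ₐ[k] Ω),
        eval₂ φ.toRingHom (fun i => ψ (a i)) h ≠ 0 := by
  classical
  let Ω₀ := AlgebraicClosure L
  let ι₀ : kbar →ₐ[k] Ω₀ := IsAlgClosed.lift
  letI : Algebra kbar Ω₀ := ι₀.toRingHom.toAlgebra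
  obtain ⟨m, hm⟩ := MvPolynomial.ne_zero_iff.1 hh
  have hm' : algebraMap L Ω₀ (h.coeff m) ≠ 0 := (map_ne_zero _).2 hm
  let bas := Module.Free.chooseBasis kbar Ω₀
  obtain ⟨j, hj⟩ : ∃ j, bas.repr (algebraMap L Ω₀ (h.coeff m)) j ≠ 0 := by
    by_contra hcon
    push_neg at hcon
    exact hm' (bas.repr.injective (by rw [map_zero]; exact Finsupp.ext hcon))
  let ℓ : Ω₀ →ₗ[kbar] kbar := (Finsupp.lapply j).comp bas.repr.toLinearMap
  let h₀ : MvPolynomial ι kbar := ∑ d ∈ h.support, monomial d (ℓ (algebraMap L Ω₀ (h.coeff d)))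
  have hcoeff : h₀.coeff m = ℓ (algebraMap L Ω₀ (h.coeff m)) := by
    simp only [h₀, coeff_sum, coeff_monomial]
    rw [Finset.sum_ite_eq']
    simp [MvPolynomial.mem_support_iff.2 hm]
  have hh₀ : h₀ ≠ 0 := fun e => hj (by simpa [e, ℓ] using hcoeff.symm)
  have heval : ∀ b : ι → kbar,
      ℓ (eval₂ (algebraMap L Ω₀) (fun i => ι₀ (b i)) h) = eval b h₀ := fun b => by
    rw [eval₂_eq, map_sum, map_sum]
    refine Finset.sum_congr rfl fun d _ => ?_
    rw [eval_monomial, show (∏ i ∈ d.support, ι₀ (b i) ^ d i) = ι₀ (d.prod fun i e => b i ^ e) by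
      simp [Finsupp.prod, map_prod]]
    rw [mul_comm, mul_comm (ℓ _)]
    exact ℓ.map_smul (d.prod fun i e => b i ^ e) (algebraMap L Ω₀ (h.coeff d))
  obtain ⟨c, hc, q, hq⟩ := exists_dvd_map (k := k) ι hh₀
  have hp : MvPolynomial.map (algebraMap k kbar) (g * c) ≠ 0 := by
    rw [← map_zero (MvPolynomial.map (algebraMap k kbar))]
    exact fun e => mul_ne_zero hg hc (map_injective _ (algebraMap k kbar).injective e)
  obtain ⟨a₀, ha₀⟩ : ∃ a₀ : ι → kbar, eval a₀ (MvPolynomial.map (algebraMap k kbar) (g * c)) ≠ 0 := by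
    by_contra hcon
    push_neg at hcon
    exact hp (MvPolynomial.funext (fun x => by rw [hcon x, map_zero]))
  let a : ι → kbar := fun i => if i ∈ (g * c).vars then a₀ i else 0
  have ha : aeval a (g * c) ≠ 0 := by
    have : aeval a (g * c) = aeval a₀ (g * c) :=
      eval₂Hom_congr' rfl (fun i hi _ => by simp [a, hi]) rfl
    rwa [this, aeval_def, ← eval_map]
  rw [map_mul] at ha
  refine ⟨a, ((g * c).vars.finite_toSet.image a₀ |>.insert 0).subset ?_, left_ne_zero_of_mul ha, ?_⟩
  · rintro _ ⟨i, rfl⟩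
    by_cases hi : i ∈ (g * c).vars
    · exact Set.mem_insert_of_mem _ ⟨i, hi, by simp [a, hi]⟩
    · simp [a, hi]
  intro Ω _ _ _ φ ψ hz
  letI : Algebra L Ω := φ.toRingHom.toAlgebra
  haveI : IsScalarTower k L Ω := IsScalarTower.of_algebraMap_eq fun r => (φ.commutes r).symm
  let Φ : Ω₀ →ₐ[L] Ω := IsAlgClosed.lift
  let θ : kbar →ₐ[k] Ω := (Φ.restrictScalars k).comp ι₀
  have hrange : ∀ x, ∃ y, θ y = ψ x := fun x => by
    have hs : ((minpoly k x).map (algebraMap k kbar)).Splits := IsAlgClosed.splits _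
    have hroot : Polynomial.aeval (ψ x) (minpoly k x) = 0 := by
      rw [Polynomial.aeval_algHom_apply, minpoly.aeval, map_zero]
    have hne : minpoly k x ≠ 0 := minpoly.ne_zero (Algebra.IsIntegral.isIntegral x)
    have : ψ x ∈ (minpoly k x).aroots Ω := Polynomial.mem_aroots.2 ⟨hne, hroot⟩
    rw [Polynomial.aroots_def, show algebraMap k Ω = (θ : kbar →+* Ω).comp (algebraMap k kbar) from
      RingHom.ext fun r => (θ.commutes r).symm, ← Polynomial.map_map,
      hs.roots_map (θ : kbar →+* Ω)] at this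
    obtain ⟨y, -, hy⟩ := Multiset.mem_map.1 this
    exact ⟨y, hy⟩
  choose b hb using fun i => hrange (a i)
  have h1 : eval₂ (algebraMap L Ω₀) (fun i => ι₀ (b i)) h = 0 := by
    refine Φ.toRingHom.injective ?_
    rw [map_zero, eval₂_comp_left Φ.toRingHom]
    rw [show Φ.toRingHom.comp (algebraMap L Ω₀) = φ.toRingHom from
      RingHom.ext fun r => Φ.commutes r]
    rw [show (Φ.toRingHom ∘ fun i => ι₀ (b i)) = fun i => ψ (a i) from funext fun i => hb i]
    exact hz
  have h2 : eval b h₀ = 0 := by rw [← heval, h1, map_zero]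
  have h3 : aeval b c = 0 := by
    rw [aeval_def, ← eval_map, hq, map_mul, h2, zero_mul]
  apply right_ne_zero_of_mul ha
  apply ψ.toRingHom.injective
  show ψ (aeval a c) = ψ 0
  rw [map_zero, ← AlgHom.comp_apply, comp_aeval]
  rw [show (fun i => ψ (a i)) = fun i => θ (b i) from funext fun i => (hb i).symm,
    ← comp_aeval, AlgHom.comp_apply, h3, map_zero]

end Groth.Agent.H8.PureTrans.Alg
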