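import Groth.Agent.H8.PureTrans.Alg
import Groth.Agent.H8.FieldDescent.Main
import Groth.Agent.H8.SchLocus.Basic

/-! # Descent of representability along purely transcendental extensions -/

set_option autoImplicit false
set_option linter.style.haveILetI false
set_option backward.isDefEq.respectTransparency false
set_option backward.isDefEq.respectTransparency.types false

universe u

open CategoryTheory CategoryTheory.Limits AlgebraicGeometry Topology
open AlgSp (Sp yon RepWith IsAlgSpace Points IsQuasiCompactSp IsQuasiSeparatedSp IsFinLocFreeMor)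
open Groth.Agent.Lib Groth.Agent.Lib.AlgSpace
open Groth.Agent.H8.FieldDescent.Stage Groth.Agent.H8.FieldDescent.Main

namespace Groth.Agent.H8.PureTrans.Main

variable {k : Type u} [Field k] {ι : Type u}

/-- The structure map followed by a map out of a localization. -/
theorem lift_comp_algebraMap {R P : Type u} [CommRing R] [CommRing P] [Algebra k R] (g : R)
    {f : R →+* P} (hf : IsUnit (f g)) :
    (IsLocalization.Away.lift (S := Localization.Away g) g hf).comp
      (algebraMap k (Localization.Away g)) = f.comp (algebraMap k R) := by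
  rw [IsScalarTower.algebraMap_eq k R (Localization.Away g), ← RingHom.comp_assoc,
    IsLocalization.Away.lift_comp]

/-- A finite extension of a field gives a finite locally free covering. -/
theorem isFinLocFree_specMap (K' : Type u) [Field K'] [Algebra k K'] [Module.Finite k K'] :
    Mor2.IsFinLocFree (Spec.map (CommRingCat.ofHom (algebraMap k K'))) := by
  refine ⟨(IsFinite.SpecMap_iff _).2 (RingHom.finite_algebraMap.2 inferInstance),
    (HasRingHomProperty.Spec_iff (P := @Flat)).2 (RingHom.flat_algebraMap_iff.2 inferInstance),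
    (HasRingHomProperty.Spec_iff (P := @LocallyOfFinitePresentation)).2 ?_⟩
  exact RingHom.finitePresentation_algebraMap.2 (Algebra.FinitePresentation.of_finiteType.1 inferInstance)

/-- Extension of an embedding to an algebraic extension. -/
theorem exists_extend {kbar K' Ω : Type u} [Field kbar] [Algebra k kbar]
    [Algebra.IsAlgebraic k kbar] [Field K'] [Algebra k K'] [Algebra K' kbar]
    [IsScalarTower k K' kbar] [Field Ω] [IsAlgClosed Ω] [Algebra k Ω] (ψ₀ : K' →ₐ[k] Ω) :
    ∃ ψ : kbar →ₐ[k] Ω, ∀ y : K', ψ (algebraMap K' kbar y) = ψ₀ y := by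
  letI : Algebra K' Ω := ψ₀.toRingHom.toAlgebra
  haveI : IsScalarTower k K' Ω := IsScalarTower.of_algebraMap_eq fun r => (ψ₀.commutes r).symm
  haveI : Algebra.IsAlgebraic K' kbar := Algebra.IsAlgebraic.tower_top (K := k) K'
  exact ⟨(IsAlgClosed.lift : kbar →ₐ[K'] Ω).restrictScalars k, fun y =>
    (IsAlgClosed.lift : kbar →ₐ[K'] Ω).commutes y⟩

/-- The point of the generic chart determined by compatible embeddings. -/
theorem exists_point_hom {L K' Ω : Type u} [Field L] [Algebra k L] [Field K'] [Algebra k K']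
    [Field Ω] (g : MvPolynomial ι k) (a' : ι → K') (hga : IsUnit (MvPolynomial.aeval a' g))
    (hgC : IsUnit (((algebraMap (MvPolynomial ι L)
      (Localization.Away (MvPolynomial.map (algebraMap k L) g))).comp
        (MvPolynomial.map (algebraMap k L))) g))
    {f : Localization.Away (MvPolynomial.map (algebraMap k L) g)} {hp : MvPolynomial ι L}
    {s : MvPolynomial ι L} (hps : f * algebraMap _ _ s = algebraMap _ _ hp)
    (φ₀ : L →+* Ω) (ψ₀ : K' →+* Ω)
    (hk : ψ₀.comp (algebraMap k K') = φ₀.comp (algebraMap k L))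
    (hne : MvPolynomial.eval₂ φ₀ (fun i => ψ₀ (a' i)) hp ≠ 0) :
    ∃ ρ : Localization.Away (MvPolynomial.map (algebraMap k L) g) →+* Ω, ρ f ≠ 0 ∧
      ρ.comp (algebraMap L _) = φ₀ ∧
      ρ.comp (IsLocalization.Away.lift (S := Localization.Away g) g hgC) =
        ψ₀.comp (IsLocalization.Away.lift (S := Localization.Away g) g
          (g := (MvPolynomial.aeval a').toRingHom) hga) := by
  let ρ₀ : MvPolynomial ι L →+* Ω := MvPolynomial.eval₂Hom φ₀ fun i => ψ₀ (a' i)
  have hρ₀ : ρ₀.comp (MvPolynomial.map (algebraMap k L)) =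
      ψ₀.comp (MvPolynomial.aeval a').toRingHom := by
    refine MvPolynomial.ringHom_ext (fun r => ?_) fun i => ?_
    · have h₁ := DFunLike.congr_fun hk r
      simp [ρ₀] at h₁ ⊢
      exact h₁.symm
    · simp [ρ₀]
  have hρg : IsUnit (ρ₀ (MvPolynomial.map (algebraMap k L) g)) := by
    have h₁ : ρ₀ (MvPolynomial.map (algebraMap k L) g) = ψ₀ (MvPolynomial.aeval a' g) :=
      DFunLike.congr_fun hρ₀ g
    rw [h₁]
    exact hga.map ψ₀
  let ρ : Localization.Away (MvPolynomial.map (algebraMap k L) g) →+* Ω :=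
    IsLocalization.Away.lift (MvPolynomial.map (algebraMap k L) g) hρg
  have hρ : ρ.comp (algebraMap _ _) = ρ₀ := IsLocalization.Away.lift_comp _ hρg
  refine ⟨ρ, fun e₀ => ?_, ?_, IsLocalization.ringHom_ext (Submonoid.powers g) ?_⟩
  · have h₁ := congrArg ρ hps
    rw [map_mul, e₀, zero_mul] at h₁
    exact hne ((DFunLike.congr_fun hρ hp).symm.trans h₁.symm)
  · rw [IsScalarTower.algebraMap_eq L (MvPolynomial ι L)
      (Localization.Away (MvPolynomial.map (algebraMap k L) g)), ← RingHom.comp_assoc, hρ]
    exact RingHom.ext fun r => MvPolynomial.eval₂Hom_C _ _ r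
  · rw [RingHom.comp_assoc, RingHom.comp_assoc, IsLocalization.Away.lift_comp,
      IsLocalization.Away.lift_comp, ← RingHom.comp_assoc, hρ, hρ₀]

/-- Some localization of the polynomial ring makes the space a scheme. -/
theorem exists_away {X : Sp (Spec (CommRingCat.of k))} (hX : IsAlgSpace X)
    (hqc : IsQuasiCompactSp X) (hqs : IsQuasiSeparatedSp X)
    (h : (bc X (CommRingCat.ofHom
      (algebraMap k (FractionRing (MvPolynomial ι k))))).obj.IsRepresentable) :
    ∃ g : MvPolynomial ι k, g ≠ 0 ∧
      (bc X (CommRingCat.ofHom (algebraMap k (Localization.Away g)))).obj.IsRepresentable := by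
  classical
  let K : Type u := FractionRing (MvPolynomial ι k)
  haveI : IsFiltered (FGSub k K) := isFiltered_of_directed_le_nonempty (FGSub k K)
  let F : FGSub k K ⥤ CommRingCat.{u} :=
    { obj := fun A => CommRingCat.of A.1
      map := fun f => CommRingCat.ofHom (Subalgebra.inclusion (Subtype.coe_le_coe.2 f.le)).toRingHom
      map_id := fun _ => by ext x; rfl
      map_comp := fun _ _ => by ext x; rfl }
  let ρ : (Functor.const (FGSub k K)).obj (CommRingCat.of k) ⟶ F :=
    { app := fun A => CommRingCat.ofHom (algebraMap k A.1)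
      naturality := fun _ _ _ => by ext x; rfl }
  let c : Cocone F :=
    { pt := CommRingCat.of K
      ι := { app := fun A => CommRingCat.ofHom A.1.val.toRingHom
             naturality := fun _ _ _ => by ext x; rfl } }
  haveI : HasColimit F := inferInstance
  haveI : ReflectsColimit F (forget CommRingCat.{u}) :=
    reflectsColimit_of_reflectsIsomorphisms _ _
  let hc : IsColimit c := isColimitOfReflects (forget CommRingCat.{u})
    (Types.FilteredColimit.isColimitOf _ _ (fun x => by
      let x' : K := x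
      exact ⟨⟨Algebra.adjoin k {x'}, Subalgebra.fg_adjoin_finset {x'} |> fun h => by simpa using h⟩,
        ⟨x', Algebra.self_mem_adjoin_singleton k x'⟩, rfl⟩) fun i j xi xj e => by
      obtain ⟨m, him, hjm⟩ := exists_ge_ge i j
      exact ⟨m, homOfLE him, homOfLE hjm, Subtype.ext e⟩)
  obtain ⟨A, hA⟩ := exists_stage F ρ c hc (CommRingCat.ofHom (algebraMap k K))
    (fun _ => by ext x; rfl) hX hqc hqs h
  obtain ⟨s, hs⟩ := A.2
  obtain ⟨⟨g, hg⟩, hgs⟩ :=
    IsLocalization.exist_integer_multiples_of_finset (nonZeroDivisors (MvPolynomial ι k)) s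
  have hg0 : g ≠ 0 := nonZeroDivisors.ne_zero hg
  have hu : IsUnit (algebraMap (MvPolynomial ι k) K g) :=
    IsUnit.mk0 _ ((map_ne_zero_iff _ (IsFractionRing.injective _ _)).2 hg0)
  let j₀ : Localization.Away g →+* K := IsLocalization.Away.lift g hu
  let j : Localization.Away g →ₐ[k] K :=
    { toRingHom := j₀
      commutes' := fun r => by
        show j₀ _ = _
        rw [IsScalarTower.algebraMap_apply k (MvPolynomial ι k) (Localization.Away g),
          IsLocalization.Away.lift_eq, ← IsScalarTower.algebraMap_apply] }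
  have hj : Function.Injective j := by
    refine (IsLocalization.lift_injective_iff _).2 fun a b => ?_
    rw [(IsFractionRing.injective (MvPolynomial ι k) K).eq_iff]
    refine ⟨fun e => ?_, fun e => congrArg _ e⟩
    exact IsLocalization.injective (Localization.Away g)
      (powers_le_nonZeroDivisors_of_noZeroDivisors hg0) e
  have hle : A.1 ≤ j.range := by
    rw [← hs, Algebra.adjoin_le_iff]
    intro x hx
    obtain ⟨b, hb⟩ := hgs x hx
    refine ⟨IsLocalization.mk' (Localization.Away g) b ⟨g, Submonoid.mem_powers g⟩, ?_⟩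
    refine hu.mul_right_cancel ?_
    show j₀ _ * _ = _
    rw [← IsLocalization.Away.lift_eq (S := Localization.Away g) g hu g, ← map_mul, IsLocalization.mk'_spec,
      IsLocalization.Away.lift_eq, hb]
    simp [Algebra.smul_def, mul_comm]
  let φ : A.1 →ₐ[k] Localization.Away g :=
    (AlgEquiv.ofInjective j hj).symm.toAlgHom.comp (Subalgebra.inclusion hle)
  exact ⟨g, hg0, isRepresentable_congr (by ext x; exact φ.commutes x)
    (isRepresentable_bc_comp (ρ.app A) (CommRingCat.ofHom φ.toRingHom) hA)⟩

set_option maxHeartbeats 1000000 in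
/-- If a localization of the polynomial ring makes the space a scheme, every point is schematic. -/
theorem exists_scheme_nhd {X : Sp (Spec (CommRingCat.of k))} (hX : IsAlgSpace X)
    {g : MvPolynomial ι k} (hg : g ≠ 0)
    (h : (bc X (CommRingCat.ofHom (algebraMap k (Localization.Away g)))).obj.IsRepresentable)
    (x : Points X) :
    ∃ (V : Sp (Spec (CommRingCat.of k))) (j : V ⟶ X), RepWith @IsOpenImmersion j ∧
      V.obj.IsRepresentable ∧ x ∈ Set.range (Points.map j) := by
  classical
  let B : Scheme.{u} := Spec (CommRingCat.of k)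
  let b : Over B := Over.mk (𝟙 B)
  have hb : IsTerminal ((yon B).obj b) := Over.mkIdTerminal.isTerminalObj (yon B)
  -- a field point at `x`
  obtain ⟨T, a, t, rfl⟩ := AlgSpace.exists_ofPt_eq x
  let L : Type u := T.left.residueField t
  let lk : CommRingCat.of k ⟶ T.left.residueField t :=
    Spec.preimage (T.left.fromSpecResidueField t ≫ T.hom)
  letI : Algebra k L := lk.hom.toAlgebra
  let EL : Over B := Over.mk (Spec.map (CommRingCat.ofHom (algebraMap k L)))
  let iL : EL ⟶ T := Over.homMk (T.left.fromSpecResidueField t) (Spec.map_preimage _).symm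
  let q : (yon B).obj EL ⟶ X := (yon B).map iL ≫ a
  have hq : Points.ofPt q (IsLocalRing.closedPoint L) = Points.ofPt a t :=
    (AlgSpace.ofPt_yon_map_comp iL a (IsLocalRing.closedPoint L)).trans
      (congrArg _ (Scheme.fromSpecResidueField_apply t _))
  -- the scheme
  obtain ⟨M, ⟨hM⟩⟩ := h.has_representation
  let e := AlgSp.isoOfRepresentableBy hM
  obtain ⟨qM, hqM⟩ := (yon B).map_surjective (e.hom ≫ prod.snd)
  -- the generic point over `x`
  let gL : MvPolynomial ι L := MvPolynomial.map (algebraMap k L) g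
  have hgL : gL ≠ 0 := fun e₀ => hg (MvPolynomial.map_injective _ (algebraMap k L).injective
    (e₀.trans (map_zero _).symm))
  let C : Type u := Localization.Away gL
  haveI : IsDomain C :=
    IsLocalization.isDomain_localization (powers_le_nonZeroDivisors_of_noZeroDivisors hgL)
  let EC : Over B := Over.mk (Spec.map (CommRingCat.ofHom (algebraMap k C)))
  let EA : Over B := Over.mk (Spec.map (CommRingCat.ofHom (algebraMap k (Localization.Away g))))
  have hgC : IsUnit (((algebraMap (MvPolynomial ι L) C).comp (MvPolynomial.map (algebraMap k L))) g) :=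
    IsLocalization.Away.algebraMap_isUnit (S := C) gL
  let iA : Localization.Away g →+* C := IsLocalization.Away.lift g hgC
  have hiA : iA.comp (algebraMap k (Localization.Away g)) = algebraMap k C := by
    refine (lift_comp_algebraMap g hgC).trans ?_
    rw [IsScalarTower.algebraMap_eq k (MvPolynomial ι L) C, RingHom.comp_assoc]
    refine congrArg _ (RingHom.ext fun r => ?_)
    exact MvPolynomial.map_C _ r
  let cL : EC ⟶ EL := Over.homMk (Spec.map (CommRingCat.ofHom (algebraMap L C))) (by
    show Spec.map _ ≫ Spec.map _ = Spec.map _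
    rw [← Spec.map_comp, ← CommRingCat.ofHom_comp, ← IsScalarTower.algebraMap_eq])
  let cA : EC ⟶ EA := Over.homMk (Spec.map (CommRingCat.ofHom iA)) (by
    show Spec.map _ ≫ Spec.map _ = Spec.map _
    rw [← Spec.map_comp, ← CommRingCat.ofHom_comp, hiA])
  let Φ : (yon B).obj EC ⟶ bc X (CommRingCat.ofHom (algebraMap k (Localization.Away g))) :=
    prod.lift ((yon B).map cL ≫ q) ((yon B).map cA)
  obtain ⟨φC, hφC⟩ := (yon B).map_surjective (Φ ≫ e.inv)
  let c₀ : EC.left := (⟨⊥, Ideal.isPrime_bot⟩ : PrimeSpectrum C)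
  obtain ⟨_, ⟨U, hU, rfl⟩, hcU, -⟩ :=
    M.left.isBasis_affineOpens.exists_subset_of_mem_open (Set.mem_univ (φC.left c₀)) isOpen_univ
  change M.left.Opens at U
  obtain ⟨_, ⟨f, rfl⟩, hfc, hfsub⟩ :=
    PrimeSpectrum.isTopologicalBasis_basic_opens.exists_subset_of_mem_open
      (show c₀ ∈ φC.left ⁻¹' (U : Set M.left) from hcU) (U.2.preimage φC.left.continuous)
  have hf : f ≠ 0 := fun e₀ => hfc (by rw [e₀]; exact Ideal.zero_mem _)
  obtain ⟨⟨hp, s⟩, hps⟩ := IsLocalization.surj (Submonoid.powers gL) f
  have hp0 : hp ≠ 0 := by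
    intro e₀
    rw [e₀, map_zero] at hps
    exact mul_ne_zero hf (IsLocalization.map_units C s).ne_zero hps
  -- the point of specialization
  obtain ⟨av, hafin, hag, hav⟩ :=
    Alg.exists_point (k := k) (kbar := AlgebraicClosure k) ι hg hp0
  let K' := IntermediateField.adjoin k (Set.range av)
  haveI : Finite ↥(Set.range av) := hafin.to_subtype
  haveI : Module.Finite k K' := IntermediateField.finiteDimensional_adjoin
    fun x _ => Algebra.IsIntegral.isIntegral x
  let a' : ι → K' := fun i => ⟨av i, IntermediateField.subset_adjoin k _ ⟨i, rfl⟩⟩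
  have hval : ∀ p : MvPolynomial ι k, K'.val (MvPolynomial.aeval a' p) = MvPolynomial.aeval av p :=
    fun p => by rw [← AlgHom.comp_apply, MvPolynomial.comp_aeval]; rfl
  have hga : IsUnit (MvPolynomial.aeval a' g) :=
    IsUnit.mk0 _ fun e₀ => hag (by rw [← hval, e₀, map_zero])
  let ev : Localization.Away g →+* K' :=
    IsLocalization.Away.lift g (g := (MvPolynomial.aeval a').toRingHom) hga
  let E' : Over B := Over.mk (Spec.map (CommRingCat.ofHom (algebraMap k K')))
  have hev : ev.comp (algebraMap k (Localization.Away g)) = algebraMap k K' :=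
    (lift_comp_algebraMap g _).trans (MvPolynomial.aeval a').comp_algebraMap
  let c : E' ⟶ EA := Over.homMk (Spec.map (CommRingCat.ofHom ev)) (by
    show Spec.map _ ≫ Spec.map _ = Spec.map _
    rw [← Spec.map_comp, ← CommRingCat.ofHom_comp, hev])
  let X' := bc X (CommRingCat.ofHom (algebraMap k K'))
  let π : X' ⟶ X := prod.fst
  -- the affine open
  let UO : Over B := Over.mk (U.ι ≫ M.hom)
  let wU : UO ⟶ M := Over.homMk U.ι rfl
  let uO : (yon B).obj UO ⟶ _ := (yon B).map wU ≫ e.hom
  have huO : RepWith @IsOpenImmersion uO := AlgSpace.repWith_yon_map_comp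
    (inferInstanceAs (IsOpenImmersion U.ι)) (AlgSpace.repWith_of_isIso _ e.hom)
  let μ : X' ⟶ bc X (CommRingCat.ofHom (algebraMap k (Localization.Away g))) :=
    prod.map (𝟙 X) ((yon B).map c)
  let P := pullback (wU ≫ qM) c
  have sP := (IsPullback.of_hasPullback (wU ≫ qM) c).map (yon B)
  let aP : (yon B).obj P ⟶ X' :=
    prod.lift ((yon B).map (pullback.fst (wU ≫ qM) c) ≫ uO ≫ prod.fst)
      ((yon B).map (pullback.snd (wU ≫ qM) c))
  have huq : uO ≫ prod.snd = (yon B).map (wU ≫ qM) := by
    rw [Functor.map_comp, hqM, Category.assoc]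
  have sqU : IsPullback ((yon B).map (pullback.fst (wU ≫ qM) c)) aP uO μ := by
    refine AlgSpace.isPullback_of_yon (prod.hom_ext ?_ ?_) (fun W p r h1 h2 => sP.hom_ext h1 ?_)
      fun W p r w => ?_
    · simp [μ, aP]
    · rw [Category.assoc, huq, sP.w]
      simp [μ, aP]
    · simpa [aP] using congrArg (· ≫ prod.snd) h2
    · have w' : p ≫ (yon B).map (wU ≫ qM) = (r ≫ prod.snd) ≫ (yon B).map c := by
        rw [← huq]
        simpa [μ] using congrArg (· ≫ prod.snd) w
      refine ⟨sP.lift p (r ≫ prod.snd) w', sP.lift_fst _ _ _, prod.hom_ext ?_ ?_⟩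
      · simp [aP]
        simpa [μ] using congrArg (· ≫ prod.fst) w
      · simp [aP]
  have haP : RepWith @IsOpenImmersion aP := AlgSpace.repWith_baseChange sqU huO
  haveI : IsAffine UO.left := hU
  haveI : IsAffine E'.left := inferInstanceAs (IsAffine (Spec (CommRingCat.of K')))
  haveI : IsAffine EA.left := inferInstanceAs (IsAffine (Spec (CommRingCat.of (Localization.Away g))))
  have hPaff : IsAffine P.left := by
    have sqL := (IsPullback.of_hasPullback (wU ≫ qM) c).map (Over.forget B)
    haveI : IsAffineHom c.left := isAffineHom_of_isAffine _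
    haveI : IsAffineHom (pullback.fst (wU ≫ qM) c).left :=
      MorphismProperty.of_isPullback sqL.flip ‹_›
    exact isAffine_of_isAffineHom (pullback.fst (wU ≫ qM) c).left
  -- the projection
  haveI : IsAffine b.left := inferInstanceAs (IsAffine (Spec (CommRingCat.of k)))
  let cb : E' ⟶ b := Over.homMk E'.hom (Category.comp_id _)
  have sqb : IsPullback π prod.snd (hb.from X) ((yon B).map cb) :=
    AlgSpace.isPullback_of_yon (hb.hom_ext _ _) (fun U p q h1 h2 ↦ prod.hom_ext h1 h2)
      fun U p q _ ↦ ⟨prod.lift p q, prod.lift_fst _ _, prod.lift_snd _ _⟩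
  have hflf : Mor2.IsFinLocFree cb.left := isFinLocFree_specMap K'
  have hπ : IsFinLocFreeMor π :=
    AlgSpace.repWith_baseChange sqb.flip ((AlgSp.repWith_yon_map_iff _ cb).2 hflf)
  have hπs : RepWith @Surjective π := AlgSpace.repWith_baseChange sqb.flip
    ((AlgSp.repWith_yon_map_iff @Surjective cb).2
      ⟨fun y => ⟨IsLocalRing.closedPoint K', Subsingleton.elim (α := PrimeSpectrum k) _ _⟩⟩)
  -- the fibre
  let sL : EL ⟶ b := Over.homMk EL.hom (Category.comp_id _)
  let Q := pullback sL cb
  have sQ := (IsPullback.of_hasPullback sL cb).map (yon B)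
  let l : (yon B).obj Q ⟶ X' :=
    prod.lift ((yon B).map (pullback.fst sL cb) ≫ q) ((yon B).map (pullback.snd sL cb))
  have sqQ : IsPullback l ((yon B).map (pullback.fst sL cb)) π q := by
    refine AlgSpace.isPullback_of_yon (prod.lift_fst _ _)
      (fun W p r h1 h2 => sQ.hom_ext h2 ?_) fun W p r w => ?_
    · simpa [l] using congrArg (· ≫ prod.snd) h1
    · refine ⟨sQ.lift r (p ≫ prod.snd) (hb.hom_ext _ _), prod.hom_ext ?_ ?_, sQ.lift_fst _ _ _⟩
      · simp [l]
        exact w.symm
      · simp [l]
  have hfib : Points.map π ⁻¹' {Points.ofPt a t} ⊆ Set.range (Points.ofPt aP) := by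
    intro z hz
    obtain ⟨w, rfl, -⟩ := AlgSpace.exists_of_isPullback sqQ z
      (Points.ofScheme EL (IsLocalRing.closedPoint L))
      (by rw [← Points.ofPt_eq_map_ofScheme, hq]; exact hz)
    obtain ⟨ws, rfl⟩ : ∃ ws, Points.ofScheme Q ws = w := ⟨_, Points.ofScheme_toScheme Q w⟩
    let Ω : Type u := AlgebraicClosure (Q.left.residueField ws)
    let ωl : Spec (CommRingCat.of Ω) ⟶ Q.left :=
      Spec.map (CommRingCat.ofHom (algebraMap (Q.left.residueField ws) Ω)) ≫
        Q.left.fromSpecResidueField ws
    let φ₀ : CommRingCat.of L ⟶ CommRingCat.of Ω := Spec.preimage (ωl ≫ (pullback.fst sL cb).left)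
    let ψ₀ : CommRingCat.of K' ⟶ CommRingCat.of Ω :=
      Spec.preimage (ωl ≫ (pullback.snd sL cb).left)
    letI : Algebra k Ω := (φ₀.hom.comp (algebraMap k L)).toAlgebra
    have hω : ωl ≫ Q.hom = Spec.map (CommRingCat.ofHom (algebraMap k Ω)) := by
      rw [RingHom.algebraMap_toAlgebra, CommRingCat.ofHom_comp, Spec.map_comp, CommRingCat.ofHom_hom,
        Spec.map_preimage, Category.assoc, ← Over.w (pullback.fst sL cb)]
      simp only [ωl, Category.assoc]
      rfl
    have hψ : ψ₀.hom.comp (algebraMap k K') = algebraMap k Ω := by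
      refine congrArg CommRingCat.Hom.hom (Spec.map_injective (?_ :
        Spec.map (CommRingCat.ofHom (algebraMap k K') ≫ ψ₀) = Spec.map (CommRingCat.ofHom (algebraMap k Ω))))
      rw [← hω, Spec.map_comp, Spec.map_preimage, Category.assoc, ← Over.w (pullback.snd sL cb)]
      rfl
    let ω : (Over.mk (Spec.map (CommRingCat.ofHom (algebraMap k Ω))) : Over B) ⟶ Q :=
      Over.homMk ωl hω
    let ψ₁ : K' →ₐ[k] Ω := { ψ₀.hom with commutes' := fun r => DFunLike.congr_fun hψ r }
    obtain ⟨ψ, hψe⟩ := exists_extend (kbar := AlgebraicClosure k) ψ₁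
    have hψa : ∀ i, ψ (av i) = ψ₀.hom (a' i) := fun i => hψe (a' i)
    let φ : L →ₐ[k] Ω := { φ₀.hom with commutes' := fun _ => rfl }
    obtain ⟨ρ, hρf, hρL, hρA⟩ := exists_point_hom g a' hga hgC hps φ₀.hom ψ₀.hom
      (hψ.trans (RingHom.algebraMap_toAlgebra _)) (fun e₀ => hav Ω φ ψ (by
        rw [funext hψa]; exact e₀))
    let θ : (Over.mk (Spec.map (CommRingCat.ofHom (algebraMap k Ω))) : Over B) ⟶ EC :=
      Over.homMk (Spec.map (CommRingCat.ofHom ρ)) (by
        show Spec.map _ ≫ Spec.map _ = Spec.map _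
        rw [← Spec.map_comp, ← CommRingCat.ofHom_comp, IsScalarTower.algebraMap_eq k L C,
          ← RingHom.comp_assoc, hρL]
        rfl)
    have e₁ : θ ≫ cL = ω ≫ pullback.fst sL cb := Over.OverMorphism.ext (by
      show Spec.map _ ≫ Spec.map _ = ωl ≫ _
      rw [← Spec.map_comp, ← CommRingCat.ofHom_comp, hρL, CommRingCat.ofHom_hom, Spec.map_preimage])
    have e₂ : θ ≫ cA = ω ≫ pullback.snd sL cb ≫ c := Over.OverMorphism.ext (by
      show Spec.map _ ≫ Spec.map _ = ωl ≫ _ ≫ Spec.map _
      rw [← Spec.map_comp, ← CommRingCat.ofHom_comp, hρA, CommRingCat.ofHom_comp, Spec.map_comp,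
        CommRingCat.ofHom_hom, Spec.map_preimage, Category.assoc])
    have e₃ : (yon B).map θ ≫ Φ = (yon B).map ω ≫ l ≫ μ := by
      refine prod.hom_ext ?_ ?_
      · simp only [Φ, l, μ, Category.assoc, prod.lift_fst, prod.map_fst, Category.comp_id]
        rw [← Category.assoc, ← Functor.map_comp, e₁, Functor.map_comp, Category.assoc]
      · simp only [Φ, l, μ, Category.assoc, prod.lift_snd, prod.map_snd, prod.lift_snd_assoc]
        rw [← Functor.map_comp, ← Functor.map_comp, ← Functor.map_comp, e₂]
    have hp' : φC.left (θ.left (IsLocalRing.closedPoint Ω)) ∈ U := hfsub (by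
      show f ∉ (PrimeSpectrum.comap ρ (IsLocalRing.closedPoint Ω)).asIdeal
      intro hmem
      exact (IsLocalRing.mem_maximalIdeal _).1 hmem (Ne.isUnit hρf))
    have hΦ : Φ = (yon B).map φC ≫ e.hom := by
      rw [hφC, Category.assoc, e.inv_hom_id, Category.comp_id]
    have hωpt : ω.left (IsLocalRing.closedPoint Ω) = ws := Scheme.fromSpecResidueField_apply ws _
    have key : Points.map μ (Points.map l (Points.ofScheme Q ws)) =
        Points.map uO (Points.ofScheme UO (⟨_, hp'⟩ : U.toScheme)) := by
      rw [← Points.map_comp, ← Points.ofPt_eq_map_ofScheme, ← Points.ofPt_eq_map_ofScheme]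
      refine (congrArg (Points.ofPt (l ≫ μ)) hωpt).symm.trans ?_
      rw [← AlgSpace.ofPt_yon_map_comp ω, ← e₃, hΦ, ← Category.assoc, ← Functor.map_comp,
        AlgSpace.ofPt_yon_map_comp]
      exact (AlgSpace.ofPt_yon_map_comp wU e.hom (⟨_, hp'⟩ : U.toScheme)).symm
    obtain ⟨v, -, hv⟩ := AlgSpace.exists_of_isPullback sqU _ _ key.symm
    rw [← AlgSpDecent.Core.range_points_map_yon]
    exact ⟨v, hv⟩
  obtain ⟨Y', j, hj, hY', hmem⟩ := (SchLocus.Basic.iff
    (X := ⟨X', AlgSpace.isAlgSpace_prod hX (IsAlgSpace.yon_obj _)⟩) (Y := ⟨X, hX⟩)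
    (ObjectProperty.homMk π) hπ hπs _).2 ⟨P, aP, hPaff, haP, hfib⟩
  exact ⟨Y'.obj, j.hom, hj, hY', hmem⟩

/-- Descent of representability along a purely transcendental extension. -/
theorem isRepresentable {X : Sp (Spec (CommRingCat.of k))} (hX : IsAlgSpace X)
    (hqs : IsQuasiSeparatedSp X)
    (h : (bc X (CommRingCat.ofHom
      (algebraMap k (FractionRing (MvPolynomial ι k))))).obj.IsRepresentable) :
    X.obj.IsRepresentable := by
  obtain ⟨U, a, ha, hs⟩ := hX.atlas
  choose V j hV hVc hVs hj hmem using fun u : U.left => exists_qc_nhd hX hqs (Points.ofPt a u)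
  choose g hg hgV using fun u => exists_away (hV u) (hVc u) (hVs u)
    (isRepresentable_of_open (repWith_bc_map (hj u) _) h)
  choose v hv using hmem
  choose W w hw hW hwmem using fun u => exists_scheme_nhd (hV u) (hg u) (hgV u) (v u)
  refine isRepresentable_of_cover hX (fun u => AlgSpace.repWith_comp (hw u) (hj u)) hW fun x => ?_
  obtain ⟨u, rfl⟩ := AlgSpace.surjective_ofPt hs x
  obtain ⟨y, hy⟩ := hwmem u
  exact ⟨u, y, by rw [Points.map_comp, hy, hv]⟩

end Groth.Agent.H8.PureTrans.Main
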